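import Cfsg.Prelude.Def_SteinbergCover
import Mathlib

/-!
# The group presented by Steinberg's relators (R1), (R2): basic facts (helper5)

`y r t` is the image of the generator `x̄_r(t)` in the abelianization; the group is perfect as
soon as all the `y r t` are trivial.
-/

set_option autoImplicit false

namespace Cfsg.Agent.Lib.Helper5.StCov

open Cfsg.Lie

variable {K : Type*} [Field K] (D : ChevalleyDatum)

theorem scGen_add (r : ℕ) (t₁ t₂ : K) :
    D.scGen K r t₁ * D.scGen K r t₂ = D.scGen K r (t₁ + t₂) := by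
  by_cases hr : r < D.nroots
  · have hmem : D.stX r t₁ * D.stX r t₂ * (D.stX r (t₁ + t₂))⁻¹ ∈ D.steinbergRelsAB K :=
      Or.inl ⟨r, t₁, t₂, hr, rfl⟩
    have h := PresentedGroup.one_of_mem hmem
    rw [map_mul, map_mul, map_inv, mul_inv_eq_one] at h
    exact h
  · unfold ChevalleyDatum.scGen ChevalleyDatum.stX
    simp [hr]

theorem scGen_of_not_lt (r : ℕ) (hr : ¬ r < D.nroots) (t : K) : D.scGen K r t = 1 := by
  unfold ChevalleyDatum.scGen ChevalleyDatum.stX
  simp [hr]

theorem mk_stWord (w : List (ℕ × K)) :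
    PresentedGroup.mk (D.steinbergRelsAB K) (D.stWord w)
      = (w.map fun p => D.scGen K p.1 p.2).prod := by
  unfold ChevalleyDatum.stWord
  rw [map_list_prod, List.map_map]
  rfl

theorem comm_rel (r s : ℕ) (hr : r < D.nroots) (hs : s < D.nroots) (h1 : s ≠ r)
    (h2 : s ≠ D.neg r) (t u : K) :
    (D.scGen K s u)⁻¹ * (D.scGen K r t)⁻¹ * D.scGen K s u * D.scGen K r t
      = ((D.commWord K r s t u).map fun p => D.scGen K p.1 p.2).prod := by
  have hmem : (D.stX s u)⁻¹ * (D.stX r t)⁻¹ * D.stX s u * D.stX r t *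
      (D.stWord (D.commWord K r s t u))⁻¹ ∈ D.steinbergRelsAB K :=
    Or.inr ⟨r, s, t, u, hr, hs, h1, h2, rfl⟩
  have h := PresentedGroup.one_of_mem hmem
  rw [map_mul, map_inv, mul_inv_eq_one, map_mul, map_mul, map_mul, map_inv, map_inv,
    mk_stWord] at h
  exact h

/-- the image of `x̄_r(t)` in the abelianization -/
noncomputable def y (r : ℕ) (t : K) : Abelianization (D.SteinbergCover K) :=
  Abelianization.of (D.scGen K r t)

theorem y_add (r : ℕ) (t₁ t₂ : K) : y D r (t₁ + t₂) = y D r t₁ * y D r t₂ := by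
  unfold y
  rw [← map_mul, scGen_add]

theorem y_zero (r : ℕ) : y D r (0 : K) = 1 := by
  have h := y_add D r (0 : K) 0
  rw [add_zero] at h
  exact (mul_eq_left.1 h.symm)

theorem y_neg (r : ℕ) (t : K) : y D r (-t) = (y D r t)⁻¹ := by
  rw [eq_inv_iff_mul_eq_one, ← y_add, neg_add_cancel, y_zero]

theorem y_sub (r : ℕ) (t₁ t₂ : K) : y D r (t₁ - t₂) = y D r t₁ * (y D r t₂)⁻¹ := by
  rw [sub_eq_add_neg, y_add, y_neg]

/-- the relation (R2) in the abelianization -/
theorem y_rel (r s : ℕ) (hr : r < D.nroots) (hs : s < D.nroots) (h1 : s ≠ r)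
    (h2 : s ≠ D.neg r) (t u : K) :
    ((D.commWord K r s t u).map fun p => y D p.1 p.2).prod = 1 := by
  have h := congrArg (Abelianization.of) (comm_rel D r s hr hs h1 h2 t u)
  rw [map_list_prod, List.map_map] at h
  have e : (Abelianization.of : D.SteinbergCover K →* _) ∘ (fun p : ℕ × K => D.scGen K p.1 p.2)
      = fun p => y D p.1 p.2 := rfl
  rw [e] at h
  rw [← h, map_mul, map_mul, map_mul, map_inv, map_inv]
  rw [mul_comm ((Abelianization.of (D.scGen K s u))⁻¹) _, mul_assoc, mul_assoc,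
    ← mul_assoc ((Abelianization.of (D.scGen K s u))⁻¹), inv_mul_cancel, one_mul, inv_mul_cancel]

/-- the root `r` is good when all the `x̄_r(t)` are products of commutators -/
def Good (K : Type*) [Field K] (D : ChevalleyDatum) (r : ℕ) : Prop := ∀ t : K, y D r t = 1

theorem perfect_of_good (h : ∀ r < D.nroots, Good K D r) :
    commutator (D.SteinbergCover K) = ⊤ := by
  rw [eq_top_iff, ← PresentedGroup.closure_range_of, Subgroup.closure_le]
  rintro _ ⟨⟨r, t⟩, rfl⟩
  have h1 := h r.1 r.2 t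
  unfold y at h1
  rw [← Abelianization.ker_of]
  rw [SetLike.mem_coe, MonoidHom.mem_ker]
  have e : D.scGen K r.1 t = (PresentedGroup.of (r, t) : D.SteinbergCover K) := by
    unfold ChevalleyDatum.scGen ChevalleyDatum.stX
    rw [dif_pos r.2]
    rfl
  rw [← e]
  exact h1

/-- evidence from a commutator formula with a single term and constant `±1` -/
theorem good_of_single (r s g : ℕ) (C : ℤ) (hr : r < D.nroots) (hs : s < D.nroots) (h1 : s ≠ r)
    (h2 : s ≠ D.neg r) (hC : C = 1 ∨ C = -1) (hterms : D.commTerms r s = [(g, C, 1, 1)]) :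
    Good K D g := by
  intro t
  have hCK : (C : K) ≠ 0 := by
    rcases hC with rfl | rfl <;> simp
  have h := y_rel D r s hr hs h1 h2 (-(t / (C : K))) (1 : K)
  unfold ChevalleyDatum.commWord at h
  rw [hterms] at h
  simp only [List.map_cons, List.map_nil, List.prod_cons, List.prod_nil, mul_one, neg_neg,
    pow_one] at h
  rwa [mul_div_cancel₀ _ hCK] at h

/-- evidence from a commutator formula whose first two terms are those of `(1,1)` and `(2,1)`,
with constants `±1`, the other terms belonging to good roots -/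
theorem good_of_two (r s g₁ g₂ : ℕ) (c₁ c₂ : ℤ) (rest : List (ℕ × ℤ × ℕ × ℕ))
    (hx : ∃ x : K, x ≠ 0 ∧ x ≠ 1)
    (hr : r < D.nroots) (hs : s < D.nroots) (h1 : s ≠ r)
    (h2 : s ≠ D.neg r) (hc₁ : c₁ = 1 ∨ c₁ = -1) (hc₂ : c₂ = 1 ∨ c₂ = -1)
    (hterms : D.commTerms r s = (g₁, c₁, 1, 1) :: (g₂, c₂, 2, 1) :: rest)
    (hrest : ∀ q ∈ rest, Good K D q.1) :
    Good K D g₁ ∧ Good K D g₂ := by
  obtain ⟨x, hx0, hx1⟩ := hx
  have hc₁K : (c₁ : K) ≠ 0 := by
    rcases hc₁ with rfl | rfl <;> simp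
  have hc₂K : (c₂ : K) ≠ 0 := by
    rcases hc₂ with rfl | rfl <;> simp
  -- the relation with the good terms removed
  have key : ∀ t u : K, y D g₁ ((c₁ : K) * (-t) * u) * y D g₂ ((c₂ : K) * t ^ 2 * u) = 1 := by
    intro t u
    have h := y_rel D r s hr hs h1 h2 t u
    unfold ChevalleyDatum.commWord at h
    rw [hterms] at h
    simp only [List.map_cons, List.prod_cons, pow_one] at h
    have hrest1 : ((rest.map fun c : ℕ × ℤ × ℕ × ℕ =>
        (c.1, (c.2.1 : K) * (-t) ^ c.2.2.1 * u ^ c.2.2.2)).map fun p => y D p.1 p.2).prod = 1 := by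
      apply List.prod_eq_one
      intro z hz
      rw [List.map_map, List.mem_map] at hz
      obtain ⟨q, hq, rfl⟩ := hz
      exact hrest q hq _
    rw [hrest1, mul_one] at h
    have e : (-t) ^ 2 = t ^ 2 := by ring
    rwa [e] at h
  have hg₂ : Good K D g₂ := by
    intro v
    have ha := key x (v / ((c₂ : K) * x * (x - 1)))
    have hb := key 1 (x * (v / ((c₂ : K) * x * (x - 1))))
    have e1 : (c₁ : K) * (-1) * (x * (v / ((c₂ : K) * x * (x - 1))))
        = (c₁ : K) * (-x) * (v / ((c₂ : K) * x * (x - 1))) := by ring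
    rw [e1] at hb
    have hab : y D g₂ ((c₂ : K) * x ^ 2 * (v / ((c₂ : K) * x * (x - 1))))
        = y D g₂ ((c₂ : K) * 1 ^ 2 * (x * (v / ((c₂ : K) * x * (x - 1))))) := by
      have := ha.trans hb.symm
      exact mul_left_cancel this
    have hsub := y_sub D g₂ ((c₂ : K) * x ^ 2 * (v / ((c₂ : K) * x * (x - 1))))
      ((c₂ : K) * 1 ^ 2 * (x * (v / ((c₂ : K) * x * (x - 1)))))
    rw [hab, mul_inv_cancel] at hsub
    have hx1' : x - 1 ≠ 0 := sub_ne_zero.2 hx1
    have e2 : (c₂ : K) * x ^ 2 * (v / ((c₂ : K) * x * (x - 1)))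
        - (c₂ : K) * 1 ^ 2 * (x * (v / ((c₂ : K) * x * (x - 1)))) = v := by
      field_simp
    rwa [e2] at hsub
  refine ⟨?_, hg₂⟩
  intro v
  have h := key (-(v / (c₁ : K))) 1
  rw [hg₂, mul_one, neg_neg, mul_one, mul_div_cancel₀ _ hc₁K] at h
  exact h

end Cfsg.Agent.Lib.Helper5.StCov
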