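import Cfsg.Agent.Lib.Helper5.StCov.Data
import Mathlib

/-!
# The group presented by (R1), (R2) is perfect (helper5)
-/

set_option autoImplicit false
set_option maxRecDepth 100000

namespace Cfsg.Agent.Lib.Helper5.StCov

open Cfsg.Lie Cfsg.Agent.Lib.Helper5.Chev

variable {K : Type*} [Field K]

theorem good_G2 (hx : ∃ x : K, x ≠ 0 ∧ x ≠ 1) : ∀ g < chevG2.nroots, Good K chevG2 g := by
  have hA := DataG2.agrees
  have hl : ∀ p ∈ wG2, Good K chevG2 p.1 := good_of_e1Check hA wG2 wG2_ok
  have g0 : Good K chevG2 0 := hl (0, 1, 5) (by decide)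
  have g1 : Good K chevG2 1 := hl (1, 0, 6) (by decide)
  have g5 : Good K chevG2 5 := hl (5, 0, 10) (by decide)
  have g6 : Good K chevG2 6 := hl (6, 1, 11) (by decide)
  have g10 : Good K chevG2 10 := hl (10, 5, 11) (by decide)
  have g11 : Good K chevG2 11 := hl (11, 6, 10) (by decide)
  have hn : chevG2.nroots = 12 := by decide
  have e1 := good_of_two (K := K) chevG2 2 10 7 3 (-1) 1 [(0, 1, 3, 1), (5, 1, 3, 2)] hx
    (by decide) (by decide) (by decide) (by decide +kernel) (Or.inr rfl) (Or.inl rfl)
    ((FD.commTerms_eq hA 2 10 (by decide) (by decide)).trans (by decide +kernel))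
    (by
      intro q hq
      simp only [List.mem_cons, List.not_mem_nil, or_false] at hq
      rcases hq with rfl | rfl
      · exact g0
      · exact g5)
  have e2 := good_of_two (K := K) chevG2 2 11 8 4 (-1) (-1) [(1, -1, 3, 1), (6, -1, 3, 2)] hx
    (by decide) (by decide) (by decide) (by decide +kernel) (Or.inr rfl) (Or.inr rfl)
    ((FD.commTerms_eq hA 2 11 (by decide) (by decide)).trans (by decide +kernel))
    (by
      intro q hq
      simp only [List.mem_cons, List.not_mem_nil, or_false] at hq
      rcases hq with rfl | rfl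
      · exact g1
      · exact g6)
  have e3 := good_of_two (K := K) chevG2 3 6 4 2 1 (-1) [(0, 1, 3, 1), (1, -1, 3, 2)] hx
    (by decide) (by decide) (by decide) (by decide +kernel) (Or.inl rfl) (Or.inr rfl)
    ((FD.commTerms_eq hA 3 6 (by decide) (by decide)).trans (by decide +kernel))
    (by
      intro q hq
      simp only [List.mem_cons, List.not_mem_nil, or_false] at hq
      rcases hq with rfl | rfl
      · exact g0
      · exact g1)
  have e4 := good_of_two (K := K) chevG2 3 11 9 7 1 1 [(5, -1, 3, 1), (10, 1, 3, 2)] hx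
    (by decide) (by decide) (by decide) (by decide +kernel) (Or.inl rfl) (Or.inl rfl)
    ((FD.commTerms_eq hA 3 11 (by decide) (by decide)).trans (by decide +kernel))
    (by
      intro q hq
      simp only [List.mem_cons, List.not_mem_nil, or_false] at hq
      rcases hq with rfl | rfl
      · exact g5
      · exact g10)
  intro g hg
  rw [hn] at hg
  interval_cases g
  · exact g0
  · exact g1
  · exact e3.2
  · exact e1.2
  · exact e2.2
  · exact g5
  · exact g6
  · exact e1.1
  · exact e2.1
  · exact e4.1
  · exact g10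
  · exact g11

theorem good_B2 (hx : ∃ x : K, x ≠ 0 ∧ x ≠ 1) : ∀ g < chevB2.nroots, Good K chevB2 g := by
  have hA := DataB2.agrees
  have hn : chevB2.nroots = 8 := by decide
  have hnil : ∀ q ∈ ([] : List (ℕ × ℤ × ℕ × ℕ)), Good K chevB2 q.1 := by
    intro q hq
    simp at hq
  have e1 := good_of_two (K := K) chevB2 1 4 2 0 1 1 [] hx
    (by decide) (by decide) (by decide) (by decide +kernel) (Or.inl rfl) (Or.inl rfl)
    ((FD.commTerms_eq hA 1 4 (by decide) (by decide)).trans (by decide +kernel)) hnil
  have e2 := good_of_two (K := K) chevB2 1 7 5 3 (-1) 1 [] hx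
    (by decide) (by decide) (by decide) (by decide +kernel) (Or.inr rfl) (Or.inl rfl)
    ((FD.commTerms_eq hA 1 7 (by decide) (by decide)).trans (by decide +kernel)) hnil
  have e3 := good_of_two (K := K) chevB2 2 7 6 4 1 (-1) [] hx
    (by decide) (by decide) (by decide) (by decide +kernel) (Or.inl rfl) (Or.inr rfl)
    ((FD.commTerms_eq hA 2 7 (by decide) (by decide)).trans (by decide +kernel)) hnil
  have e4 := good_of_two (K := K) chevB2 5 4 6 7 (-1) (-1) [] hx
    (by decide) (by decide) (by decide) (by decide +kernel) (Or.inr rfl) (Or.inr rfl)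
    ((FD.commTerms_eq hA 5 4 (by decide) (by decide)).trans (by decide +kernel)) hnil
  have e5 := good_of_two (K := K) chevB2 2 3 1 0 1 (-1) [] hx
    (by decide) (by decide) (by decide) (by decide +kernel) (Or.inl rfl) (Or.inr rfl)
    ((FD.commTerms_eq hA 2 3 (by decide) (by decide)).trans (by decide +kernel)) hnil
  intro g hg
  rw [hn] at hg
  interval_cases g
  · exact e1.2
  · exact e5.1
  · exact e1.1
  · exact e2.2
  · exact e3.2
  · exact e2.1
  · exact e3.1
  · exact e4.2

/-- the group presented by Steinberg's relators (R1) and (R2) is perfect -/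
theorem cover_perfect (D : ChevalleyDatum)
    (hD : D ∈ [chevG2, chevB2, chevD4, chevF4, chevE6, chevE7, chevE8])
    (hK : D ∈ [chevB2, chevG2] → ∃ x : K, x ≠ 0 ∧ x ≠ 1) :
    commutator (D.SteinbergCover K) = ⊤ := by
  simp only [List.mem_cons, List.not_mem_nil, or_false] at hD
  rcases hD with rfl | rfl | rfl | rfl | rfl | rfl | rfl
  · exact perfect_of_good _ (good_G2 (hK (by simp)))
  · exact perfect_of_good _ (good_B2 (hK (by simp)))
  · exact perfect_of_good _ (good_all_of_e1Check DataD4.agrees wD4 wD4_ok wD4_cov)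
  · exact perfect_of_good _ (good_all_of_e1Check DataF4.agrees wF4 wF4_ok wF4_cov)
  · exact perfect_of_good _ (good_all_of_e1Check DataE6.agrees wE6 wE6_ok wE6_cov)
  · exact perfect_of_good _ (good_all_of_e1Check DataE7.agrees wE7 wE7_ok wE7_cov)
  · exact perfect_of_good _ (good_all_of_e1Check DataE8.agrees wE8 wE8_ok wE8_cov)

end Cfsg.Agent.Lib.Helper5.StCov
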